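import Groth.Agent.Jac.K533.ShHom
import Groth.Agent.BunMod.K527.SymTheta
import Groth.Agent.Jac.K532.LamDesc

/-!
# The theta divisor is invariant under the residuation `M ↦ Ω ⊗ M⁻¹` in degree `g - 1`

* `NT_om`, `hasDeg_om`: the canonical class on the curves `X_T`.
* `IsRes ι`: `ι` classifies `c ↦ ω c⁻¹`; `exists_res`, `IsRes.comp_self`.
* `preimage_jumpLocus`, `preimage_thetaLocus`, `comap_ideal`, `pull_theta`: `ι^* Θ' ≅ Θ'`.
-/

set_option autoImplicit false
universe u
open CategoryTheory CategoryTheory.Limits AlgebraicGeometry Opposite TopologicalSpace MonoidalCategory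
  CartesianMonoidalCategory

namespace K533.Resid

open Groth.Agent Groth.Agent.Grpsch Groth.Agent.Grpsch.PicGrp Groth.Agent.Fga.RigGrp Groth.Agent.Fga.JacSum
open Groth.Agent.Fga.JacAlg Groth.Agent.Picfga.ChiDef Groth.Agent.Fga.JacSurj Groth.Agent.Ega3A.PicLocBase
open Groth.Agent.Ega3A.PicDiv Groth.Agent.Ega3A.PicEtSh Groth.Agent.Ega3A.PicSheaf
open K914.Cls K914.Points K914.HField K914.PtDrop K914.Semi K914.Fine K317.CoarseBC K732.BC K317.JumpPts K317.ThetaBC
open K317.ShRep Groth.Agent.Fdesc.LocGen Groth.Agent.Vancyc.H878.RelOmega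

section field

variable {k : Type u} [Field k] {X : Scheme.{u}} (f : X ⟶ Spec (CommRingCat.of k))
  [IsProper f] [Smooth f] [GeometricallyConnected f] [SmoothOfRelativeDimension 1 f]

/-- `χ(O) = 1 - g` on every `X_K`. -/
def HasGenus (g : ℤ) : Prop := ∀ (K : Type u) [Field K] (t : Spec (CommRingCat.of K) ⟶ Spec (CommRingCat.of k)),
  chiK f t 1 = 1 - g

theorem isInvertible_omega : PicF.IsInvertible (Omega.sheaf f) := by
  have := K914.Curve.isIntegral f
  exact CurvesB.OmegaInv.isInvertible_omega f (K914.Curve.curve_dim f)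

/-- The class of the sheaf of differentials. -/
noncomputable def om : Pic X := mk (Omega.sheaf f) (isInvertible_omega f)

variable {K : Type u} [Field K] (t : Spec (CommRingCat.of K) ⟶ Spec (CommRingCat.of k))

theorem NT_om : NT f (om f) (Over.mk t) = omK f t := by
  rw [NT, om, pull_mk]
  exact (mk_eq_iff _ _).2 ⟨omegaBC (IsPullback.of_hasPullback f t)⟩

variable {f}

omit [Smooth f] [GeometricallyConnected f] [SmoothOfRelativeDimension 1 f] in
/-- The degree of a constant family may be computed on `X`. -/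
theorem hasDeg_of_base {N : Pic X} {m : ℤ} (h : chiK f (𝟙 _) (NT f N (Over.mk (𝟙 _))) = chiK f (𝟙 _) 1 + m) :
    HasDeg f N m := by
  intro T
  have h1 : IsDeg f m (NT f N (Over.mk (𝟙 (Spec (CommRingCat.of k))))) := (isDeg_iff_chiK _ _).2 h
  have h2 := h1.pull (Over.homMk T.hom (Category.comp_id _) : T ⟶ Over.mk (𝟙 (Spec (CommRingCat.of k))))
  rwa [pull_NT] at h2

theorem hasDeg_om {g : ℤ} (hg : HasGenus f g) : HasDeg f (om f) (2 * g - 2) := by
  apply hasDeg_of_base
  have h1 := dK_omK f (𝟙 (Spec (CommRingCat.of k)))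
  rw [dK] at h1
  rw [NT_om]
  have h2 := hg k (𝟙 _)
  omega

/-- The symmetry of Riemann-Roch in degree `g - 1`. -/
theorem hK_res {g : ℤ} (hg : HasGenus f g) {c : Pic (PicF.XT f (Over.mk t))} (hc : IsDeg f (g - 1) c) :
    hK f t 0 (NT f (om f) (Over.mk t) * c⁻¹) = hK f t 0 c := by
  have h1 := rr f t c
  have h2 := (isDeg_iff_chiK t c).1 hc
  have h3 := serre f t c
  have h4 := hg K t
  rw [dK] at h1
  rw [NT_om]
  omega

end field

section locus

variable {k : Type u} [Field k] {X : Scheme.{u}} {f : X ⟶ Spec (CommRingCat.of k)}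
  [IsProper f] [Smooth f] [GeometricallyConnected f] [SmoothOfRelativeDimension 1 f] {g : ℤ}
  {J : Over (Spec (CommRingCat.of k))} (ψ : (ModFun.PicDeg f (g - 1)).Hom ⊤ J)

/-- `ι` classifies `c ↦ ω c⁻¹`. -/
def IsRes (ι : J ⟶ J) : Prop := ∀ (T : Over (Spec (CommRingCat.of k))) (c : Pic (PicF.XT f T))
  (hc : IsDeg f (g - 1) c) (hc' : IsDeg f (g - 1) (NT f (om f) T * c⁻¹)),
  psiCl ψ (NT f (om f) T * c⁻¹) hc' = psiCl ψ c hc ≫ ι

theorem isDeg_res (hg : HasGenus f g) {T : Over (Spec (CommRingCat.of k))} {c : Pic (PicF.XT f T)}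
    (hc : IsDeg f (g - 1) c) : IsDeg f (g - 1) (NT f (om f) T * c⁻¹) :=
  ((hasDeg_om hg T).mul hc.inv).congr (by ring) rfl

variable {ψ}

theorem exists_res (hg : HasGenus f g) (h : IsSh ψ) : ∃ ι : J ⟶ J, IsRes ψ ι := by
  obtain ⟨ι, hι⟩ := ShHom.exists_hom' h J (fun T c hc => psiCl ψ (NT f (om f) T * c⁻¹) (isDeg_res hg hc))
    (by
      intro T T' a c hc
      rw [comp_psiCl]
      refine psiCl_congr ψ ?_ _
      rw [map_mul, map_inv, pull_NT])
  exact ⟨ι, fun T c hc hc' => hι T c hc⟩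

variable {ι : J ⟶ J}

theorem IsRes.comp_self (hg : HasGenus f g) (h : IsSh ψ) (hι : IsRes ψ ι) : ι ≫ ι = 𝟙 J := by
  apply ShHom.hom_ext h
  intro T c hc
  rw [Category.comp_id, ← Category.assoc, ← hι T c hc (isDeg_res hg hc),
    ← hι T _ (isDeg_res hg hc) (isDeg_res hg (isDeg_res hg hc))]
  refine psiCl_congr ψ ?_ _
  rw [mul_inv, inv_inv, mul_inv_cancel_left]

theorem IsRes.isIso_left (hg : HasGenus f g) (h : IsSh ψ) (hι : IsRes ψ ι) : IsIso ι.left := by
  have h1 := hι.comp_self hg h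
  have : IsIso ι := ⟨ι, h1, h1⟩
  exact inferInstanceAs (IsIso ((Over.forget _).map ι))

theorem mem_jumpLocus_struct (y : J.left) :
    y ∈ Jac.jumpLocus f (g - 1) ψ (Coh.structureModule X) ↔ ∃ (Ω : Type u) (_ : Field Ω) (_ : IsAlgClosed Ω)
      (t : Spec (CommRingCat.of Ω) ⟶ Spec (CommRingCat.of k)) (c : Pic (PicF.XT f (Over.mk t)))
      (hc : IsDeg f (g - 1) c), 0 < hK f t 0 c ∧
        ∃ p : Spec (CommRingCat.of Ω), (psiCl ψ c hc).left p = y := by
  rw [mem_jumpLocus_iff' ψ _ isInvertible_structureModule]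
  have h1 : ∀ T : Over (Spec (CommRingCat.of k)),
      NT f (mk (Coh.structureModule X) isInvertible_structureModule) T = 1 := fun T => map_one _
  simp only [h1, mul_one]

theorem IsRes.mem_jumpLocus (hg : HasGenus f g) (hι : IsRes ψ ι) {y : J.left}
    (hy : y ∈ Jac.jumpLocus f (g - 1) ψ (Coh.structureModule X)) :
    ι.left y ∈ Jac.jumpLocus f (g - 1) ψ (Coh.structureModule X) := by
  rw [mem_jumpLocus_struct] at hy ⊢
  obtain ⟨Ω, _, _, t, c, hc, h, p, rfl⟩ := hy
  refine ⟨Ω, inferInstance, inferInstance, t, NT f (om f) (Over.mk t) * c⁻¹, isDeg_res hg hc, ?_, p, ?_⟩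
  · rwa [hK_res t hg hc]
  · rw [hι (Over.mk t) c hc (isDeg_res hg hc)]
    rfl

theorem IsRes.preimage_jumpLocus (hg : HasGenus f g) (h : IsSh ψ) (hι : IsRes ψ ι) :
    ι.left ⁻¹' (Jac.jumpLocus f (g - 1) ψ (Coh.structureModule X)) =
      Jac.jumpLocus f (g - 1) ψ (Coh.structureModule X) := by
  have hii : ∀ y : J.left, ι.left (ι.left y) = y := by
    intro y
    exact congrArg (fun z : J ⟶ J => z.left y) (hι.comp_self hg h)
  ext y
  constructor
  · intro hy
    have := hι.mem_jumpLocus hg (show ι.left y ∈ _ from hy)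
    rwa [hii] at this
  · intro hy
    exact hι.mem_jumpLocus hg hy

theorem IsRes.preimage_thetaLocus (hg : HasGenus f g) (h : IsSh ψ) (hι : IsRes ψ ι) :
    ι.left ⁻¹' (Jac.thetaLocus f (g - 1) ψ (Coh.structureModule X)) =
      Jac.thetaLocus f (g - 1) ψ (Coh.structureModule X) := by
  have := hι.isIso_left hg h
  rw [Jac.thetaLocus]
  have h1 := (ι.left.homeomorph).preimage_closure (Jac.jumpLocus f (g - 1) ψ (Coh.structureModule X))
  have h2 : ⇑(ι.left.homeomorph) = ⇑ι.left := rfl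
  rw [h2] at h1
  rw [h1, hι.preimage_jumpLocus hg h]

theorem IsRes.comap_ideal (hg : HasGenus f g) (h : IsSh ψ) (hι : IsRes ψ ι) :
    (Scheme.IdealSheafData.vanishingIdeal
      ⟨Jac.thetaLocus f (g - 1) ψ (Coh.structureModule X), isClosed_closure⟩).comap ι.left =
    Scheme.IdealSheafData.vanishingIdeal
      ⟨Jac.thetaLocus f (g - 1) ψ (Coh.structureModule X), isClosed_closure⟩ := by
  have := hι.isIso_left hg h
  rw [K598.Red.comap_vanishingIdeal]
  congr 1
  apply TopologicalSpace.Closeds.ext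
  exact hι.preimage_thetaLocus hg h

/-- **The theta line bundle in degree `g - 1` is invariant under `M ↦ Ω ⊗ M⁻¹`.** -/
theorem IsRes.pull_theta (hg : HasGenus f g) (h : IsSh ψ) (hι : IsRes ψ ι) {Θ : J.left.Modules}
    (hΘ : Jac.IsThetaLB f (g - 1) ψ (Coh.structureModule X) Θ) :
    pull ι.left (mk Θ hΘ.1) = mk Θ hΘ.1 := by
  have := hι.isIso_left hg h
  obtain ⟨h1, h2⟩ := hΘ
  have hI := Dix.IdealModCartier.isEffCartierIdeal_of_isInverseOf h2
  have hI' := Divis.EffCartier.isEff_comap_flat hI ι.left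
  have h4 := Dix.IdealModCartier.pullback_idealMod ι.left hI hI'
  have h5 : mk Θ h1 * mk _ (Dix.IdealModCartier.isInvertible_idealMod hI) = 1 := by
    rw [mk_mul_mk, mk_eq_one_iff]
    exact h2
  have h6 := congrArg (pull ι.left) h5
  rw [map_mul, map_one] at h6
  have h7 : pull ι.left (mk _ (Dix.IdealModCartier.isInvertible_idealMod hI)) =
      mk _ (Dix.IdealModCartier.isInvertible_idealMod hI') := by
    rw [pull_mk]
    exact (mk_eq_iff _ _).2 h4
  have h8 : mk _ (Dix.IdealModCartier.isInvertible_idealMod hI') =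
      mk _ (Dix.IdealModCartier.isInvertible_idealMod hI) := by
    refine (mk_eq_iff _ _).2 ⟨eqToIso ?_⟩
    rw [hι.comap_ideal hg h]
  rw [h7, h8] at h6
  exact mul_right_cancel (h6.trans h5.symm)

end locus

end K533.Resid
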