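import Groth.Agent.Jac.K317.ShRep

/-!
# Morphisms out of a scheme representing classes of degree `d`

`(J, ψ)` represents the étale sheafification of the classes of fibre degree `d`.

* `exists_hom`: a natural construction `(y, c) ↦ F y c` with values in the points of `N`, `y` a point of `Y`, `c` a class
  of degree `d`, is given by a morphism `Y ⊗ J ⟶ N`.
* `exists_hom'`: the same without the parameter `Y`.
* `hom_ext`: morphisms out of `J` are determined by their values at classes.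
-/

set_option autoImplicit false
universe u
open CategoryTheory CategoryTheory.Limits AlgebraicGeometry Opposite TopologicalSpace MonoidalCategory
  CartesianMonoidalCategory

namespace K533.ShHom

open Groth.Agent Groth.Agent.Grpsch Groth.Agent.Grpsch.PicGrp Groth.Agent.Fga.RigGrp
open Groth.Agent.Fga.JacAlg Groth.Agent.Picfga.ChiDef Groth.Agent.Fga.JacSurj
open Groth.Agent.Ega3A.PicDiv Groth.Agent.Ega3A.PicEtSh Groth.Agent.Ega3A.PicSheaf Groth.Agent.Ega3A.PicLocBase
open K914.Cls K317.ShRep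

variable {k : Type u} [Field k] {X : Scheme.{u}} {f : X ⟶ Spec (CommRingCat.of k)}
  [IsProper f] [Smooth f] [GeometricallyConnected f] [SmoothOfRelativeDimension 1 f]
  {d : ℤ} {J : Over (Spec (CommRingCat.of k))} {ψ : (ModFun.PicDeg f d).Hom ⊤ J}

/-- **A natural construction on classes is given by a morphism.** -/
theorem exists_hom (h : IsSh ψ) (Y N : Over (Spec (CommRingCat.of k)))
    (F : ∀ (T : Over (Spec (CommRingCat.of k))) (_ : T ⟶ Y) (c : Pic (PicF.XT f T)), IsDeg f d c → (T ⟶ N))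
    (hF : ∀ (T T' : Over (Spec (CommRingCat.of k))) (g : T' ⟶ T) (y : T ⟶ Y) (c : Pic (PicF.XT f T))
      (hc : IsDeg f d c), F T' (g ≫ y) (pu f g c) (hc.pull g) = g ≫ F T y c hc) :
    ∃ φ : Y ⊗ J ⟶ N, ∀ (T : Over (Spec (CommRingCat.of k))) (y : T ⟶ Y) (c : Pic (PicF.XT f T))
      (hc : IsDeg f d c), F T y c hc = lift y (psiCl ψ c hc) ≫ φ := by
  have hloc : ∀ (T : Over (Spec (CommRingCat.of k))) (y y' : T ⟶ Y) (c c' : Pic (PicF.XT f T))
      (hc : IsDeg f d c) (hc' : IsDeg f d c'), y = y' → LocEq f T c c' → F T y c hc = F T y' c' hc' := by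
    rintro T y _ c c' hc hc' rfl ⟨𝒰, hU⟩
    apply hom_ext_ecov 𝒰
    intro i
    rw [← hF, ← hF]
    congr 1
    exact hU i
  obtain ⟨𝒰, c, hc, hU⟩ := h.surj (Y ⊗ J) (snd Y J)
  obtain ⟨φ, hφ⟩ := glue_hom_ecov 𝒰 (fun i => F (𝒰.V i) (𝒰.j i ≫ fst Y J) (c i) (hc i)) (by
    intro i l W a b hab
    rw [← hF, ← hF]
    apply hloc
    · rw [← Category.assoc, hab, Category.assoc]
    · apply h.inj W _ _ ((hc i).pull a) ((hc l).pull b)
      rw [psiCl_pu a (c i) (hc i), psiCl_pu b (c l) (hc l), hU, hU, ← Category.assoc, hab, Category.assoc])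
  refine ⟨φ, fun T y e he => ?_⟩
  obtain ⟨𝒱, h𝒱⟩ := exists_pull 𝒰 (lift y (psiCl ψ e he))
  apply hom_ext_ecov 𝒱
  intro l
  obtain ⟨i, s, hs⟩ := h𝒱 l
  rw [← Category.assoc, hs, Category.assoc, hφ, ← hF, ← hF]
  apply hloc
  · rw [← Category.assoc, ← hs, Category.assoc, lift_fst]
  · apply h.inj _ _ _ (he.pull _) ((hc i).pull s)
    rw [psiCl_pu _ e he, psiCl_pu s (c i) (hc i), hU, ← Category.assoc, ← hs, Category.assoc, lift_snd]

/-- A natural construction on classes is given by a morphism. -/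
theorem exists_hom' (h : IsSh ψ) (N : Over (Spec (CommRingCat.of k)))
    (F : ∀ (T : Over (Spec (CommRingCat.of k))) (c : Pic (PicF.XT f T)), IsDeg f d c → (T ⟶ N))
    (hF : ∀ (T T' : Over (Spec (CommRingCat.of k))) (g : T' ⟶ T) (c : Pic (PicF.XT f T))
      (hc : IsDeg f d c), F T' (pu f g c) (hc.pull g) = g ≫ F T c hc) :
    ∃ φ : J ⟶ N, ∀ (T : Over (Spec (CommRingCat.of k))) (c : Pic (PicF.XT f T))
      (hc : IsDeg f d c), F T c hc = psiCl ψ c hc ≫ φ := by
  obtain ⟨φ, hφ⟩ := exists_hom h (𝟙_ (Over (Spec (CommRingCat.of k)))) N (fun T _ c hc => F T c hc)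
    (fun T T' g _ c hc => hF T T' g c hc)
  refine ⟨lift (toUnit J) (𝟙 J) ≫ φ, fun T c hc => ?_⟩
  rw [hφ T (toUnit T) c hc, ← Category.assoc, comp_lift, Category.comp_id, comp_toUnit]

/-- Morphisms out of `J` are determined by their values at classes. -/
theorem hom_ext (h : IsSh ψ) {N : Over (Spec (CommRingCat.of k))} (a b : J ⟶ N)
    (hab : ∀ (T : Over (Spec (CommRingCat.of k))) (c : Pic (PicF.XT f T)) (hc : IsDeg f d c),
      psiCl ψ c hc ≫ a = psiCl ψ c hc ≫ b) : a = b := by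
  obtain ⟨𝒰, c, hc, hU⟩ := h.surj J (𝟙 J)
  apply hom_ext_ecov 𝒰
  intro i
  have h1 := hab (𝒰.V i) (c i) (hc i)
  rwa [hU, Category.comp_id] at h1

end K533.ShHom
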