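import Groth.Agent.Jac.K533.Resid

/-!
# The theta divisor pulled back along the Abel map translated by a class of degree `g - 2`

* `exists_sub`: the map `(x, c) ↦ c(-x)`.
* `psi_id`: the class of `fm^* Θ'` on `X × J_g` is classified by the identity (any field).
* `slice`: a class `U` on `X × J_g` classified by the identity restricts to `λ` at the point `[λ]`.
* `main`: `j^* Θ' ⊗ L ≅ Ω` for `j : x ↦ [L(x)]`.
-/

set_option autoImplicit false
universe u
open CategoryTheory CategoryTheory.Limits AlgebraicGeometry Opposite TopologicalSpace MonoidalCategory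
  CartesianMonoidalCategory

namespace K533.ThetaAbel

open Groth.Agent Groth.Agent.Grpsch Groth.Agent.Grpsch.PicGrp Groth.Agent.Fga.RigGrp Groth.Agent.Fga.JacSum
open Groth.Agent.Fga.JacAlg Groth.Agent.Picfga.ChiDef Groth.Agent.Fga.JacSurj Groth.Agent.Ega3A.PicLocBase
open Groth.Agent.Sga7.H732
open Groth.Agent.Ega3A.PicDiv Groth.Agent.Ega3A.PicEtSh Groth.Agent.Ega3A.PicSheaf
open K914.Cls K914.Fine K317.ShRep K317.CoarseBC K732.BC K532.UnivId K532.UnivDesc K317.JumpPts K533.Resid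

section general

variable {k : Type u} [Field k] {X : Scheme.{u}} {f : X ⟶ Spec (CommRingCat.of k)}
  [IsProper f] [Smooth f] [GeometricallyConnected f] [SmoothOfRelativeDimension 1 f]

theorem isDeg_sub {d : ℤ} {T : Over (Spec (CommRingCat.of k))} {c : Pic (PicF.XT f T)} (hc : IsDeg f d c)
    (x : Pt f T) : IsDeg f (d - 1) (c * gcl f x) :=
  (hc.mul (isDeg_gcl x)).congr (by ring) rfl

/-- The map `(x, c) ↦ c(-x)`. -/
theorem exists_sub {d : ℤ} {Jg J' : Over (Spec (CommRingCat.of k))} {ψg : (ModFun.PicDeg f d).Hom ⊤ Jg}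
    (ψ' : (ModFun.PicDeg f (d - 1)).Hom ⊤ J') (h : IsSh ψg) : ∃ fm : Over.mk f ⊗ Jg ⟶ J', IsSub ψg ψ' fm := by
  obtain ⟨fm, hfm⟩ := ShHom.exists_hom h (Over.mk f) J'
    (fun T y c hc => psiCl ψ' (c * gcl f ⟨y.left, Over.w y⟩) (isDeg_sub hc ⟨y.left, Over.w y⟩))
    (by
      intro T T' a y c hc
      rw [comp_psiCl]
      refine psiCl_congr ψ' ?_ _
      rw [map_mul, pull_gcl]
      rfl)
  exact ⟨fm, fun T x c hc hc' => hfm T (Abel.ptHom x) c hc⟩

/-- A class classified by the identity restricts to `l` at the point given by `l`. -/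
theorem slice {d : ℤ} {Jg : Over (Spec (CommRingCat.of k))} {χ : (ModFun.PicDeg f d).Hom ⊤ Jg} (hχ : IsSh χ)
    {U : Pic (PicF.XT f Jg)} (hU : IsDeg f d U) (hU1 : psiCl χ U hU = 𝟙 Jg) {l : Pic X} (hl : HasDeg f l d) :
    pull (lift (𝟙 (Over.mk f)) ((Over.homMk f (Category.comp_id _) :
      Over.mk f ⟶ Over.mk (𝟙 (Spec (CommRingCat.of k)))) ≫ psiCl χ (NT f l (Over.mk (𝟙 (Spec (CommRingCat.of k))))) (hl _)) : Over.mk f ⟶ Over.mk f ⊗ Jg).left U = l := by
  let T₀ : Over (Spec (CommRingCat.of k)) := Over.mk (𝟙 (Spec (CommRingCat.of k)))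
  let t : T₀ ⟶ Jg := psiCl χ (NT f l T₀) (hl _)
  let s : X ⟶ PicF.XT f T₀ := pullback.lift (𝟙 X) f (by rw [Category.id_comp]; exact (Category.comp_id _).symm)
  have h1 : psiCl χ (pull (PicF.XTmap f t) U) (hU.pull t) = psiCl χ (NT f l T₀) (hl _) := by
    rw [← comp_psiCl χ t U hU, hU1, Category.comp_id]
  have h2 : pull (PicF.XTmap f t) U = NT f l T₀ :=
    FormalB.PicProper.eq_of_locEq gInt (𝟙 (Spec (CommRingCat.of k))) _ _ (hχ.inj T₀ _ _ _ _ h1)
  have h3 : (lift (𝟙 (Over.mk f)) ((Over.homMk f (Category.comp_id _) : Over.mk f ⟶ T₀) ≫ t) :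
      Over.mk f ⟶ Over.mk f ⊗ Jg).left =
      s ≫ PicF.XTmap f t := by
    apply pullback.hom_ext
    · have e1 := congrArg (fun q => Over.Hom.left q) (lift_fst (𝟙 (Over.mk f))
        (Over.homMk (U := Over.mk f) (V := T₀) f (Category.comp_id _) ≫ t))
      refine Eq.trans e1 ?_
      have e2 : PicF.XTmap f t ≫ pullback.fst f Jg.hom = pullback.fst f T₀.hom := XTmap_fst f t
      have e3 : s ≫ pullback.fst f T₀.hom = 𝟙 X := pullback.lift_fst _ _ _
      refine Eq.trans ?_ (Category.assoc _ _ _).symm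
      refine Eq.trans ?_ (congrArg (fun z => s ≫ z) e2).symm
      exact e3.symm
    · have e1 := congrArg (fun q => Over.Hom.left q) (lift_snd (𝟙 (Over.mk f))
        (Over.homMk (U := Over.mk f) (V := T₀) f (Category.comp_id _) ≫ t))
      refine Eq.trans e1 ?_
      have e2 : PicF.XTmap f t ≫ pullback.snd f Jg.hom = pullback.snd f T₀.hom ≫ t.left := XTmap_XTproj f t
      have e3 : s ≫ pullback.snd f T₀.hom = f := pullback.lift_snd _ _ _
      refine Eq.trans ?_ (Category.assoc _ _ _).symm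
      refine Eq.trans ?_ (congrArg (fun z => s ≫ z) e2).symm
      refine Eq.trans ?_ (Category.assoc _ _ _)
      exact (congrArg (fun z => z ≫ t.left) e3).symm
  have h4 : s ≫ pullback.fst f T₀.hom = 𝟙 X := pullback.lift_fst _ _ _
  refine (congrArg (fun z => pull z U) h3).trans ?_
  rw [pull_comp, h2, NT, ← pull_comp, h4]
  exact pull_id l

end general

/-- The class of `fm^* Θ'` is classified by the identity, over any field. -/
theorem psi_id (k : Type u) [Field k]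
    (X : Scheme.{u}) [X.Over (Spec (CommRingCat.of k))]
    [IsProper (X ↘ Spec (CommRingCat.of k))] [Smooth (X ↘ Spec (CommRingCat.of k))]
    [GeometricallyConnected (X ↘ Spec (CommRingCat.of k))] [SmoothOfRelativeDimension 1 (X ↘ Spec (CommRingCat.of k))]
    (hdim : topologicalKrullDim ↥X = 1)
    (g : ℕ) (hg : Curv2.genus k X = g) (hg1 : 1 ≤ g)
    (Jg : Over (Spec (CommRingCat.of k)))
    (ψg : (ModFun.PicDeg (X ↘ Spec (CommRingCat.of k)) (g : ℤ)).Hom ⊤ Jg) (hSg : IsSh ψg)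
    (J' : Over (Spec (CommRingCat.of k)))
    (ψ' : (ModFun.PicDeg (X ↘ Spec (CommRingCat.of k)) ((g : ℤ) - 1)).Hom ⊤ J')
    (hJ' : ModFun.IsCoarseModuli ⊤ (ModFun.PicDeg (X ↘ Spec (CommRingCat.of k)) ((g : ℤ) - 1)) J' ψ')
    (Θ' : J'.left.Modules) (hΘ' : Jac.IsThetaLB (X ↘ Spec (CommRingCat.of k)) ((g : ℤ) - 1) ψ' (Coh.structureModule X) Θ')
    (fm : Over.mk (X ↘ Spec (CommRingCat.of k)) ⊗ Jg ⟶ J') (hsub : IsSub ψg ψ' fm) :
    ∃ hd : IsDeg (X ↘ Spec (CommRingCat.of k)) (g : ℤ)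
      (pull fm.left (mk Θ' hΘ'.1) : Pic (PicF.XT (X ↘ Spec (CommRingCat.of k)) Jg)),
      psiCl ψg (pull fm.left (mk Θ' hΘ'.1) : Pic (PicF.XT (X ↘ Spec (CommRingCat.of k)) Jg)) hd = 𝟙 Jg := by
  let f := X ↘ Spec (CommRingCat.of k)
  let K := AlgebraicClosure k
  let a : Spec (CommRingCat.of K) ⟶ Spec (CommRingCat.of k) := Spec.map (CommRingCat.ofHom (algebraMap k K))
  have hX' : Curve.IsSmoothProperCurve k X f := K532.Base.isSmoothProperCurve f hdim
  have hS' : IsSh ψ' := isSh hX' hJ'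
  have hsep : IsSeparated J'.hom := isSeparated_of_coarse hX' hJ'
  -- the curve over `K`
  let _ : (pullback f a).Over (Spec (CommRingCat.of K)) := ⟨pullback.snd f a⟩
  have i1 : IsProper (pullback f a ↘ Spec (CommRingCat.of K)) := inferInstanceAs (IsProper (pullback.snd f a))
  have i2 : Smooth (pullback f a ↘ Spec (CommRingCat.of K)) := inferInstanceAs (Smooth (pullback.snd f a))
  have i3 : GeometricallyConnected (pullback f a ↘ Spec (CommRingCat.of K)) :=
    inferInstanceAs (GeometricallyConnected (pullback.snd f a))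
  have i4 : SmoothOfRelativeDimension 1 (pullback f a ↘ Spec (CommRingCat.of K)) :=
    inferInstanceAs (SmoothOfRelativeDimension 1 (pullback.snd f a))
  have hdK : topologicalKrullDim ↥(pullback f a) = 1 := by
    rw [← hdim]
    exact Etcore.DimBaseChange.topologicalKrullDim_eq (Field.toIsField k)
      (Field.toIsField K) f _ _ _ (IsPullback.of_hasPullback f a)
  have hc : CompactSpace X := (quasiCompact_iff_compactSpace f).1 inferInstance
  have hqs : QuasiSeparatedSpace X := (quasiSeparated_iff_quasiSeparatedSpace f).1 inferInstance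
  have hgK : Curv2.genus K (pullback f a) = g := by
    rw [K317.FieldBC.genus_bc k K (pullback.fst f a) (IsPullback.of_hasPullback f a), hg]
  -- the theta line bundle over `K`
  have hO : PicF.IsInvertible (Coh.structureModule X) := Fdesc.LocGen.isInvertible_structureModule
  have hdO : K317.JumpPts.HasDeg f (mk (Coh.structureModule X) hO) 0 := by
    intro T
    have : K317.JumpPts.NT f (mk (Coh.structureModule X) hO) T = 1 := map_one _
    rw [this]
    exact isDeg_one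
  have hΘ1 := K317.ThetaBC.isThetaLB_bc ψ' a (Coh.structureModule X) hO hdO
    (n := g - 1) (by push_cast [Nat.cast_sub hg1]; ring) hΘ'
  have hΘK : Jac.IsThetaLB (pullback.snd f a) ((g : ℤ) - 1) (psiK a ψ') (Coh.structureModule (pullback f a))
      ((Scheme.Modules.pullback (pullback.fst J'.hom a)).obj Θ') :=
    isThetaLB_congr (Fdesc.LocGen.isInvertible_pullback _ hO)
      (Ega3B.PullTensor.nonempty_pullUnitIso (pullback.fst f a)).some hΘ1
  obtain ⟨hd, hid⟩ := K532.UnivId.main K (pullback f a) hdK g hgK hg1 (Red.bc a Jg) (psiK a ψg) (isCoarse_psiK a hSg)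
    (Red.bc a J') (psiK a ψ') (isCoarse_psiK a hS') _ hΘK (fmK a fm) (isSub_psiK a hsub)
  have e1 : mk ((Scheme.Modules.pullback (pullback.fst J'.hom a)).obj Θ') hΘK.1 =
      pull (pullback.fst J'.hom a) (mk Θ' hΘ'.1) := (pull_mk _ hΘ'.1).symm
  have e2 := tr_fmK a (f := f) fm (mk Θ' hΘ'.1)
  rw [← e1] at e2
  have hd1 : IsDeg f (g : ℤ) (pull (PicF.XTmap f (prj a Jg))
      (pull fm.left (mk Θ' hΘ'.1) : Pic (PicF.XT f Jg))) := by
    rw [← e2]
    exact (isDeg_tr a).2 hd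
  have hd2 := isDeg_of_prj a hd1
  refine ⟨hd2, eq_id_of_prj a _ hd2 ?_⟩
  have h4 := (psiCl_psiK (f := f) a (ψ := ψg) (T := Red.bc a Jg) _ hd).symm.trans hid
  have h5 := up_inj (h4.trans (up_prj (k := a) (A := Jg)).symm)
  exact (psiCl_congr ψg e2.symm (hd2.pull (prj a Jg))).trans h5

/-- **`j^* Θ' ⊗ L ≅ Ω` for `j : x ↦ [L(x)]`, `deg L = g - 2`.** -/
theorem main (k : Type u) [Field k]
    (X : Scheme.{u}) [X.Over (Spec (CommRingCat.of k))]
    [IsProper (X ↘ Spec (CommRingCat.of k))] [Smooth (X ↘ Spec (CommRingCat.of k))]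
    [GeometricallyConnected (X ↘ Spec (CommRingCat.of k))] [SmoothOfRelativeDimension 1 (X ↘ Spec (CommRingCat.of k))]
    (hdim : topologicalKrullDim ↥X = 1)
    (g : ℕ) (hg : Curv2.genus k X = g) (hg1 : 1 ≤ g)
    (J' : Over (Spec (CommRingCat.of k)))
    (ψ' : (ModFun.PicDeg (X ↘ Spec (CommRingCat.of k)) ((g : ℤ) - 1)).Hom ⊤ J')
    (hJ' : ModFun.IsCoarseModuli ⊤ (ModFun.PicDeg (X ↘ Spec (CommRingCat.of k)) ((g : ℤ) - 1)) J' ψ')
    (Θ' : J'.left.Modules) (hΘ' : Jac.IsThetaLB (X ↘ Spec (CommRingCat.of k)) ((g : ℤ) - 1) ψ' (Coh.structureModule X) Θ')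
    (L : X.Modules) (hL : PicF.IsInvertible L) (hLdeg : Curv2.deg k X L 1 = (g : ℤ) - 2)
    (l : Pic (PicF.XT (X ↘ Spec (CommRingCat.of k)) (Over.mk (X ↘ Spec (CommRingCat.of k)))))
    (hld : IsDeg (X ↘ Spec (CommRingCat.of k)) ((g : ℤ) - 1) l)
    (hl : l * gcl (X ↘ Spec (CommRingCat.of k)) Abel.idPt =
      NT (X ↘ Spec (CommRingCat.of k)) (mk L hL) (Over.mk (X ↘ Spec (CommRingCat.of k)))) :
    pull (X := X) (psiCl ψ' l hld).left (mk Θ' hΘ'.1) = om (X ↘ Spec (CommRingCat.of k)) * (mk L hL)⁻¹ := by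
  let f := X ↘ Spec (CommRingCat.of k)
  have hX' : Curve.IsSmoothProperCurve k X f := K532.Base.isSmoothProperCurve f hdim
  have hS' : IsSh ψ' := isSh hX' hJ'
  have hgen : HasGenus f (g : ℤ) := by
    intro K _ t
    rw [K914.Curve.chiK_one k X t, hg]
  -- the scheme representing the classes of degree `g`
  obtain ⟨P₁⟩ := Picfga.CurveP1.exists_p1Data hX'
  obtain ⟨P, ⟨φ, hφ⟩, -⟩ := exists_rep hX'
  obtain ⟨V, χ, hχ, -⟩ := K317.ShEx.exists_isSh P₁ hφ (g : ℤ)
  obtain ⟨ι, hι⟩ := exists_res hgen hS'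
  obtain ⟨fm, hfm⟩ := exists_sub ψ' hχ
  obtain ⟨hd, hid⟩ := psi_id k X hdim g hg hg1 _ χ hχ J' ψ' hJ' Θ' hΘ' fm hfm
  -- the degrees
  have hdL : HasDeg f (mk L hL) ((g : ℤ) - 2) := by
    have h1 := K531.ThetaLoc.chiK_pull_fst (C := X) (𝟙 (Spec (CommRingCat.of k))) (mk L hL)
    rw [K532.CurvePic.deg_mk k X hdim, hLdeg] at h1
    exact hasDeg_of_base (sub_eq_iff_eq_add'.1 h1)
  have hdl : HasDeg f (om f * (mk L hL)⁻¹) (g : ℤ) := by
    intro T
    have h1 := ((hasDeg_om hgen T).mul (hdL T).inv).congr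
      (show 2 * (g : ℤ) - 2 + -((g : ℤ) - 2) = (g : ℤ) by ring) rfl
    rw [NT, map_mul, map_inv]
    exact h1
  -- `j` followed by the residuation
  have hres : IsDeg f ((g : ℤ) - 1) (NT f (om f) (Over.mk f) * l⁻¹) := isDeg_res hgen hld
  have e1 : NT f (om f) (Over.mk f) * l⁻¹ = NT f (om f * (mk L hL)⁻¹) (Over.mk f) * gcl f Abel.idPt := by
    have h1 : NT f (om f * (mk L hL)⁻¹) (Over.mk f) =
        NT f (om f) (Over.mk f) * (NT f (mk L hL) (Over.mk f))⁻¹ := by
      rw [NT, map_mul, map_inv]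
      rfl
    rw [h1, ← hl, mul_inv, ← mul_assoc, inv_mul_cancel_right]
  have hres' : IsDeg f ((g : ℤ) - 1) (NT f (om f * (mk L hL)⁻¹) (Over.mk f) * gcl f Abel.idPt) := e1 ▸ hres
  have e2 : psiCl ψ' l hld ≫ ι = lift (Abel.ptHom Abel.idPt)
      (psiCl χ (NT f (om f * (mk L hL)⁻¹) (Over.mk f)) (hdl _)) ≫ fm := by
    rw [← hι (Over.mk f) l hld hres, ← hfm (Over.mk f) Abel.idPt _ (hdl _) hres']
    exact psiCl_congr ψ' e1 hres
  have e3 : psiCl χ (NT f (om f * (mk L hL)⁻¹) (Over.mk f)) (hdl _) =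
      (Over.homMk f (Category.comp_id _) : Over.mk f ⟶ Over.mk (𝟙 (Spec (CommRingCat.of k)))) ≫
        psiCl χ (NT f (om f * (mk L hL)⁻¹) (Over.mk (𝟙 (Spec (CommRingCat.of k))))) (hdl _) := by
    rw [comp_psiCl]
    exact psiCl_congr χ (pull_NT f _ _).symm _
  have h1 : pull (psiCl ψ' l hld ≫ ι).left (mk Θ' hΘ'.1) = pull (psiCl ψ' l hld).left (mk Θ' hΘ'.1) := by
    rw [Over.comp_left, pull_comp, hι.pull_theta hgen hS' hΘ']
  have h2 := slice hχ hd hid hdl
  rw [← e3] at h2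
  have h3 : (Abel.ptHom Abel.idPt : Over.mk f ⟶ Over.mk f) = 𝟙 _ := rfl
  rw [h3] at e2
  refine h1.symm.trans ?_
  rw [e2, Over.comp_left, pull_comp]
  exact h2

end K533.ThetaAbel
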